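import Groth.Agent.H85.SegreOneCMD
import Groth.Agent.H85.GrLCBase
import Groth.Agent.H81.GrTopTensor
import Groth.Agent.H58.LCGV
import Groth.Agent.H58.LCDepthExt
import Groth.Agent.H58.X26.DepthInf
import Groth.Agent.H98.GrStar.AsGr
import Groth.Agent.H98.GrStar.LocCohGr

set_option autoImplicit false
universe u

/-!
# Graded `k`-algebras: Cohen–Macaulayness and vanishing of graded local cohomology

For a Noetherian graded `k`-algebra `T` (`ℤ → Submodule k T`, nonnegatively graded, `T_0 = k`) of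
dimension `n` with irrelevant ideal `m`:
* `H_subsingleton_of_forall_Hcomp`: all pieces zero ⇒ `*H^q_m = 0`;
* `H_subsingleton_of_dim_lt`: `*H^q_m(T) = 0` for `q > n` (Grothendieck vanishing);
* `H_subsingleton_of_cm`: `T` Cohen–Macaulay ⇒ `*H^q_m(T) = 0` for `q < n`;
* `isCohenMacaulayRing_of_H_subsingleton`: `*H^q_m(T) = 0` for all `q < n` ⇒ `T` Cohen–Macaulay.
-/

namespace Groth.Agent.H98.SegCM

open Groth.Agent.H98.GrStar Groth.Agent.H85.GrConv Groth.Agent.H85.GradedNN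
  Groth.Agent.H85.SegreOneCM

section Pieces

variable {ι : Type} [AddCommGroup ι] [DecidableEq ι]
variable {R : Type u} [CommRing R] {σ : Type u} [SetLike σ R] [AddSubgroupClass σ R]
  {𝒜 : ι → σ} [GradedRing 𝒜]
variable {M : Type u} [AddCommGroup M] [Module R M] {τ : Type u} [SetLike τ M]
  [AddSubgroupClass τ M] {ℳ : ι → τ} [DirectSum.Decomposition ℳ] [SetLike.GradedSMul 𝒜 ℳ]

/-- if all homogeneous pieces of `*H^q_a(M)` vanish then so does `*H^q_a(M)` -/
theorem H_subsingleton_of_forall_Hcomp (E : GrLC.StarInjRes 𝒜 ℳ) (a : HomogeneousIdeal 𝒜) (q : ℕ)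
    (h : ∀ d : ι, E.Hcomp a q d = ⊥) : Subsingleton (E.H a q) := by
  have hint := Hgr_isInternal 𝒜 (asGr ℳ) (asRes E) a q
  have hbot : ∀ d : ι, (asRes E).Hgr a q d = ⊥ := by
    intro d
    have h1 : (asRes E).Hgr a q d = (E.Hcomp a q d).toAddSubgroup := rfl
    rw [h1, h d]
    rfl
  have key : ∀ x : (asRes E).H a q, x = 0 := by
    intro x
    obtain ⟨X, rfl⟩ := hint.2 x
    have hX : X = 0 := by
      refine DFinsupp.ext fun d => ?_
      apply Subtype.ext
      have h3 : ∀ (G : AddSubgroup ((asRes E).H a q)) (y : G), G = ⊥ → (y : (asRes E).H a q) = 0 := by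
        intro G y hG
        subst hG
        exact (AddSubgroup.mem_bot).mp y.2
      exact h3 _ (X d) (hbot d)
    rw [hX, map_zero]
  exact ⟨fun x y => (key x).trans (key y).symm⟩

theorem Hcomp_eq_bot_of_subsingleton (E : GrLC.StarInjRes 𝒜 ℳ) (a : HomogeneousIdeal 𝒜) (q : ℕ)
    (h : Subsingleton (E.H a q)) (d : ι) : E.Hcomp a q d = ⊥ := by
  rw [eq_bot_iff]
  intro x _
  rw [Submodule.mem_bot]
  exact Subsingleton.elim _ _

end Pieces

section Alg

variable {k : Type u} [Field k] {T : Type u} [CommRing T] [Algebra k T]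
  (𝒯 : ℤ → Submodule k T) [GradedAlgebra 𝒯]
  (hposT : ∀ n : ℤ, n < 0 → 𝒯 n = ⊥) (h0T : 𝒯 0 = Submodule.span k {(1 : T)})
  (mT : HomogeneousIdeal 𝒯)
  (hmT : mT.toIdeal = Ideal.span (⋃ n ∈ Set.Ioi (0 : ℤ), (𝒯 n : Set T)))

include hmT in
theorem toIdeal_eq_irr : mT.toIdeal = irr 𝒯 := by
  rw [hmT, irr_eq_span_iUnion]

/-- Grothendieck vanishing above the dimension -/
theorem H_subsingleton_of_dim_lt [IsNoetherianRing T] (n : ℕ) (hn : ringKrullDim T = n)
    (IT : GrLC.StarInjRes 𝒯 𝒯) (q : ℕ) (hq : n < q) : Subsingleton (IT.H mT q) := by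
  have e := Groth.Agent.H81.GrTopTensor.lcEquiv IT mT q
  have h1 : Module.supportDim T T < (q : WithBot ℕ∞) := by
    rw [Module.supportDim_self_eq_ringKrullDim, hn]
    exact_mod_cast hq
  have := Groth.Agent.H58.LC.gv mT.toIdeal q T h1
  exact e.toEquiv.subsingleton

include hposT h0T hmT in
/-- depth vanishing for Cohen–Macaulay graded algebras -/
theorem H_subsingleton_of_cm [Nontrivial T] [IsNoetherianRing T] [LocCoh.IsCohenMacaulayRing T]
    (n : ℕ) (hn : ringKrullDim T = n) (IT : GrLC.StarInjRes 𝒯 𝒯) (q : ℕ) (hq : q < n) :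
    Subsingleton (IT.H mT q) := by
  have hpos' := selfGr_neg 𝒯 hposT
  have h0' := isField_deg0_selfGr 𝒯 h0T
  have hm' := Groth.Agent.H85.GrLCBridge.isStarLocal_irrH (selfGr 𝒯) hpos' h0'
  have hmax' := Groth.Agent.H85.GrLCBridge.irrI_isMaximal (selfGr 𝒯) hpos' h0'
  have heq : homAG 𝒯 mT = Groth.Agent.H85.GrLCBridge.irrH (selfGr 𝒯) := by
    apply HomogeneousIdeal.toIdeal_injective
    rw [homAG_toIdeal, hmT]
    rfl
  haveI : (Groth.Agent.H85.GrLCBridge.irrH (selfGr 𝒯)).toIdeal.IsMaximal := hmax'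
  have key := Groth.Agent.H85.GrLCBase.subsingleton_H_of_cm (selfGr 𝒯)
    (Groth.Agent.H85.GrLCBridge.irrH (selfGr 𝒯)) hm' n hn (resAG 𝒯 IT) q hq
  rw [← heq] at key
  exact key

include hposT h0T hmT in
/-- vanishing of graded local cohomology below the dimension implies Cohen–Macaulay -/
theorem isCohenMacaulayRing_of_H_subsingleton [Nontrivial T] [IsNoetherianRing T]
    (n : ℕ) (hn : ringKrullDim T = n) (IT : GrLC.StarInjRes 𝒯 𝒯)
    (h : ∀ q : ℕ, q < n → Subsingleton (IT.H mT q)) : LocCoh.IsCohenMacaulayRing T := by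
  classical
  have hmax : (irr 𝒯).IsMaximal := irr_isMaximal 𝒯 hposT h0T
  haveI hprime : (irr 𝒯).IsPrime := hmax.isPrime
  have hI : mT.toIdeal = irr 𝒯 := toIdeal_eq_irr 𝒯 mT hmT
  apply isCohenMacaulayRing_of_irr 𝒯 hposT h0T hmax
  set A := Localization.AtPrime (irr 𝒯) with hA
  haveI : IsNoetherianRing A := IsLocalization.isNoetherianRing (irr 𝒯).primeCompl A inferInstance
  -- the depth of `T` along the irrelevant ideal
  have hne : (irr 𝒯) • (⊤ : Submodule T T) ≠ ⊤ := by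
    intro h1
    apply hmax.ne_top
    rw [← Ideal.mul_top (irr 𝒯)]
    exact h1
  have hdepth : (n : ℕ∞) ≤ LocCoh.idealDepth (irr 𝒯) T := by
    by_contra hlt
    push Not at hlt
    obtain ⟨t, ht⟩ : ∃ t : ℕ, LocCoh.idealDepth (irr 𝒯) T = t := by
      have hne_top : LocCoh.idealDepth (irr 𝒯) T ≠ ⊤ := ne_top_of_lt hlt
      exact ⟨(LocCoh.idealDepth (irr 𝒯) T).toNat, (ENat.natCast_toNat hne_top).symm⟩
    have htn : t < n := by
      rw [ht] at hlt
      exact_mod_cast hlt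
    have hnt := Groth.Agent.H58.LC.nontrivial_H_of_idealDepth_eq (irr 𝒯) T hne t ht
    have hsub := h t htn
    have e := Groth.Agent.H81.GrTopTensor.lcEquiv IT mT t
    rw [hI] at e
    have : Subsingleton (LocCoh.H (irr 𝒯) t T) := e.symm.toEquiv.subsingleton
    exact not_subsingleton _ this
  have hdA : (n : ℕ∞) ≤ LocCoh.depth A A := by
    rw [Groth.Agent.H58.X26.idealDepth_eq_iInf_depth_localization] at hdepth
    have h1 := hdepth.trans (iInf₂_le (⟨irr 𝒯, hprime⟩ : PrimeSpectrum T) le_rfl)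
    rwa [Groth.Agent.H72.DepthCM.depth_localizedModule_self] at h1
  have hle := Groth.Agent.H72.FlatCM.depth_le_ringKrullDim A
  have hdimA : ringKrullDim A ≤ n := by
    rw [IsLocalization.AtPrime.ringKrullDim_eq_height (irr 𝒯) A, ← hn]
    exact Ideal.height_le_ringKrullDim_of_ne_top hprime.ne_top
  rw [Groth.Agent.H72.FlatCM.isCohenMacaulayLocalRing_iff]
  apply le_antisymm
  · refine hdimA.trans ?_
    have : ((n : ℕ∞) : WithBot ℕ∞) ≤ ((LocCoh.depth A A : ℕ∞) : WithBot ℕ∞) :=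
      WithBot.coe_le_coe.mpr hdA
    exact this
  · exact hle

end Alg

end Groth.Agent.H98.SegCM
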