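import Groth.Agent.H98.SegCM.RingCM
import Groth.Agent.H98.GrStar.EndDeg

set_option autoImplicit false
universe u

/-!
# Standard graded case: `R # S` is Cohen–Macaulay iff `a(R) < 0` and `a(S) < 0`
-/

namespace Groth.Agent.H98.SegCM

open scoped TensorProduct
open Groth.Agent.H98.GrStar Groth.Agent.H85.GrConv Groth.Agent.H85.GradedNN
  Groth.Agent.H85.SegreOneCM Groth.Agent.H85.SegreRingFacts

section EndDeg

variable {G : Type u} [AddCommGroup G]

theorem endDeg_lt_zero_iff (𝒢 : ℤ → AddSubgroup G) :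
    GrLC.endDeg 𝒢 < 0 ↔ ∀ n : ℤ, 0 ≤ n → 𝒢 n = ⊥ := by
  constructor
  · intro h n hn
    by_contra hne
    have h1 := le_endDeg 𝒢 n hne
    have h2 := lt_of_le_of_lt h1 h
    have h3 : ((n : WithTop ℤ) : WithBot (WithTop ℤ)) < (((0 : ℤ) : WithTop ℤ) : WithBot (WithTop ℤ)) := h2
    rw [WithBot.coe_lt_coe, WithTop.coe_lt_coe] at h3
    omega
  · intro h
    have h1 := endDeg_le_of_forall 𝒢 (-1) (fun n hn => h n (by omega))
    refine lt_of_le_of_lt h1 ?_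
    have : (((-1 : ℤ) : WithTop ℤ) : WithBot (WithTop ℤ)) < (((0 : ℤ) : WithTop ℤ) : WithBot (WithTop ℤ)) := by
      rw [WithBot.coe_lt_coe, WithTop.coe_lt_coe]
      omega
    exact this

end EndDeg

section Std

variable {k : Type u} [Field k] {R : Type u} [CommRing R] [Algebra k R]
  (𝒜 : ℤ → Submodule k R) [GradedAlgebra 𝒜]
  (hposR : ∀ n : ℤ, n < 0 → 𝒜 n = ⊥) (h0R : 𝒜 0 = Submodule.span k {(1 : R)})
  (hstdR : Ideal.span (⋃ n ∈ Set.Ioi (0 : ℤ), (𝒜 n : Set R)) =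
    Ideal.span ((𝒜 1 : Submodule k R) : Set R))

theorem span_one_pow_le (j : ℕ) :
    (Ideal.span ((𝒜 1 : Submodule k R) : Set R)) ^ j ≤ Ideal.span ((𝒜 (j : ℤ) : Submodule k R) : Set R) := by
  induction j with
  | zero =>
    rw [pow_zero, Ideal.one_eq_top]
    intro x _
    have h1 : (1 : R) ∈ Ideal.span ((𝒜 ((0 : ℕ) : ℤ) : Submodule k R) : Set R) :=
      Ideal.subset_span (by
        rw [Nat.cast_zero]
        exact SetLike.GradedOne.one_mem)
    have := Ideal.mul_mem_left _ x h1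
    rwa [mul_one] at this
  | succ j ih =>
    rw [pow_succ]
    refine (Ideal.mul_mono_left ih).trans ?_
    rw [Ideal.span_mul_span']
    apply Ideal.span_mono
    rintro _ ⟨a, ha, b, hb, rfl⟩
    have := SetLike.GradedMul.mul_mem (A := 𝒜) ha hb
    rw [Nat.cast_succ]
    exact this

include hposR h0R hstdR in
/-- a standard graded algebra of positive dimension is nonzero in every nonnegative degree -/
theorem piece_ne_bot [Nontrivial R] (r : ℕ) (hr : ringKrullDim R = r) (h1r : 1 ≤ r) (n : ℤ)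
    (hn : 0 ≤ n) : 𝒜 n ≠ ⊥ := by
  intro hbot
  obtain ⟨j, rfl⟩ := Int.eq_ofNat_of_zero_le hn
  have hmax : (irr 𝒜).IsMaximal := irr_isMaximal 𝒜 hposR h0R
  have hirr : irr 𝒜 = Ideal.span ((𝒜 1 : Submodule k R) : Set R) := by
    rw [irr_eq_span_iUnion, hstdR]
  have hpow : (irr 𝒜) ^ j = ⊥ := by
    rw [eq_bot_iff, hirr]
    refine (span_one_pow_le 𝒜 j).trans ?_
    rw [hbot]
    simp
  have hall : ∀ p : Ideal R, p.IsPrime → p.IsMaximal := by
    intro p hp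
    have h1 : (irr 𝒜) ^ j ≤ p := by rw [hpow]; exact bot_le
    have h2 : irr 𝒜 ≤ p := hp.le_of_pow_le h1
    rw [← hmax.eq_of_le hp.ne_top h2]
    exact hmax
  have hdim : ringKrullDim R ≤ 0 := by
    have h0 : Ring.KrullDimLE 0 R := Ring.krullDimLE_zero_iff.mpr (fun p hp => hall p hp)
    have := (Ring.krullDimLE_iff (n := 0) (R := R)).mp h0
    exact_mod_cast this
  rw [hr] at hdim
  have : (r : WithBot ℕ∞) ≤ ((0 : ℕ) : WithBot ℕ∞) := hdim
  have h3 : r ≤ 0 := by exact_mod_cast this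
  omega

end Std

section Final

variable {k : Type u} [Field k] {R : Type u} [CommRing R] [Algebra k R]
  (𝒜 : ℤ → Submodule k R) [GradedAlgebra 𝒜]
  (hposR : ∀ n : ℤ, n < 0 → 𝒜 n = ⊥) (h0R : 𝒜 0 = Submodule.span k {(1 : R)})
  [Algebra.FiniteType k R]
  {S : Type u} [CommRing S] [Algebra k S]
  (ℬ : ℤ → Submodule k S) [GradedAlgebra ℬ]
  (hposS : ∀ n : ℤ, n < 0 → ℬ n = ⊥) (h0S : ℬ 0 = Submodule.span k {(1 : S)})
  [Algebra.FiniteType k S]
  {T : Type u} [CommRing T] [Algebra k T] (𝒯 : ℤ → Submodule k T) [GradedAlgebra 𝒯]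
  (ψ : T →ₐ[k] R ⊗[k] S) (hψ : Function.Injective ψ)
  (hdegT : ∀ n : ℤ, (𝒯 n).map ψ.toLinearMap =
    Submodule.span k {x : R ⊗[k] S | ∃ a ∈ 𝒜 n, ∃ b ∈ ℬ n, x = a ⊗ₜ[k] b})
  [LocCoh.IsCohenMacaulayRing R] [LocCoh.IsCohenMacaulayRing S]
  (mR : HomogeneousIdeal 𝒜)
  (hmR : mR.toIdeal = Ideal.span (⋃ n ∈ Set.Ioi (0 : ℤ), (𝒜 n : Set R)))
  (hstdR : Ideal.span (⋃ n ∈ Set.Ioi (0 : ℤ), (𝒜 n : Set R)) =
    Ideal.span ((𝒜 1 : Submodule k R) : Set R))
  (I : GrLC.StarInjRes 𝒜 𝒜)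
  (mS : HomogeneousIdeal ℬ)
  (hmS : mS.toIdeal = Ideal.span (⋃ n ∈ Set.Ioi (0 : ℤ), (ℬ n : Set S)))
  (hstdS : Ideal.span (⋃ n ∈ Set.Ioi (0 : ℤ), (ℬ n : Set S)) =
    Ideal.span ((ℬ 1 : Submodule k S) : Set S))
  (J : GrLC.StarInjRes ℬ ℬ)
  (r s : ℕ) (hr : ringKrullDim R = r) (hs : ringKrullDim S = s)

include hposR h0R hposS h0S hψ hdegT hmR hmS hstdR hstdS hr hs in
/-- **S18648**, given the Künneth formula (S18673) -/
theorem segre_cm_iff_ainv (h2r : 2 ≤ r) (h2s : 2 ≤ s)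
    (hK : ∀ (mT : HomogeneousIdeal 𝒯)
      (_ : mT.toIdeal = Ideal.span (⋃ n ∈ Set.Ioi (0 : ℤ), (𝒯 n : Set T)))
      (IT : GrLC.StarInjRes 𝒯 𝒯),
      (∀ (q : ℕ) (d : ℤ), q ≤ 1 → I.Hcomp mR q d = ⊥) →
      (∀ (q : ℕ) (d : ℤ), q ≤ 1 → J.Hcomp mS q d = ⊥) →
      ∀ (q : ℕ) (d : ℤ), Module.finrank (GrLC.deg0 𝒯) (IT.Hcomp mT q d) =
      Module.finrank k (𝒜 d) * Module.finrank (GrLC.deg0 ℬ) (J.Hcomp mS q d) +
      Module.finrank (GrLC.deg0 𝒜) (I.Hcomp mR q d) * Module.finrank k (ℬ d) +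
      (Finset.range (q + 2)).sum (fun i => Module.finrank (GrLC.deg0 𝒜) (I.Hcomp mR i d) *
        Module.finrank (GrLC.deg0 ℬ) (J.Hcomp mS (q + 1 - i) d))) :
    LocCoh.IsCohenMacaulayRing T ↔
      GrLC.endDeg (I.Hgr mR r) < 0 ∧ GrLC.endDeg (J.Hgr mS s) < 0 := by
  haveI : Nontrivial R := nontrivial_of_dim r hr
  haveI : Nontrivial S := nontrivial_of_dim s hs
  rw [segre_cm_iff 𝒜 hposR h0R ℬ hposS h0S 𝒯 ψ hψ hdegT mR hmR I mS hmS J r s hr hs h2r h2s hK,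
    endDeg_lt_zero_iff, endDeg_lt_zero_iff]
  have hA : ∀ n : ℤ, 𝒜 n = ⊥ ↔ n < 0 := by
    intro n
    constructor
    · intro h
      by_contra hn
      exact piece_ne_bot 𝒜 hposR h0R hstdR r hr (by omega) n (by omega) h
    · exact hposR n
  have hB : ∀ n : ℤ, ℬ n = ⊥ ↔ n < 0 := by
    intro n
    constructor
    · intro h
      by_contra hn
      exact piece_ne_bot ℬ hposS h0S hstdS s hs (by omega) n (by omega) h
    · exact hposS n
  constructor
  · rintro ⟨h1, h2⟩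
    refine ⟨fun n hn => ?_, fun n hn => ?_⟩
    · rw [Hgr_eq_bot_iff]
      rcases h2 n with h | h
      · exact h
      · rw [hB] at h
        omega
    · rw [Hgr_eq_bot_iff]
      rcases h1 n with h | h
      · rw [hA] at h
        omega
      · exact h
  · rintro ⟨h1, h2⟩
    refine ⟨fun n => ?_, fun n => ?_⟩
    · by_cases hn : n < 0
      · left
        exact hposR n hn
      · right
        rw [← Hgr_eq_bot_iff]
        exact h2 n (by omega)
    · by_cases hn : n < 0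
      · right
        exact hposS n hn
      · left
        rw [← Hgr_eq_bot_iff]
        exact h1 n (by omega)

end Final

end Groth.Agent.H98.SegCM
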