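import Groth.Agent.H98.SegCM.Bridge
import Groth.Agent.H98.GrStar.PieceApps
import Groth.Agent.H98.GrStar.Res
import Groth.Agent.H98.GrPieces
import Groth.Agent.H85.SegreDim

set_option autoImplicit false
universe u

/-!
# Cohen–Macaulayness of Segre products of Cohen–Macaulay graded rings from the Künneth formula

The Künneth formula (dimension form, statement S18673) is taken as a hypothesis `hK`.
-/

namespace Groth.Agent.H98.SegCM

open scoped TensorProduct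
open Groth.Agent.H98.GrStar Groth.Agent.H85.GrConv Groth.Agent.H85.GradedNN
  Groth.Agent.H85.SegreOneCM Groth.Agent.H85.SegreRingFacts

section Res

variable {ι : Type} [AddCommGroup ι] [DecidableEq ι]
variable {R : Type u} [CommRing R] {σ : Type u} [SetLike σ R] [AddSubgroupClass σ R]
  {𝒜 : ι → σ} [GradedRing 𝒜]
variable {M : Type u} [AddCommGroup M] [Module R M] {τ : Type u} [SetLike τ M]
  [AddSubgroupClass τ M] {ℳ : ι → τ} [DirectSum.Decomposition ℳ] [SetLike.GradedSMul 𝒜 ℳ]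

/-- back from the converted grading -/
def unasRes (E : GrLC.StarInjRes 𝒜 (asGr ℳ)) : GrLC.StarInjRes 𝒜 ℳ where
  X := E.X
  d := E.d
  ε := E.ε
  d_grHom := E.d_grHom
  ε_grHom := E.ε_grHom
  ε_injective := E.ε_injective
  exact_zero := E.exact_zero
  exact_succ := E.exact_succ
  starInj := E.starInj

variable (𝒜 ℳ) in
/-- a *injective resolution exists for pieces of any kind -/
noncomputable def resOf : GrLC.StarInjRes 𝒜 ℳ := unasRes (res 𝒜 (asGr ℳ))

end Res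

section Field

/-- a finite module of rank zero over a ring which is a field is trivial -/
theorem eq_bot_of_finrank_eq_zero {K : Type u} [CommRing K] (hK : IsField K) {V : Type u}
    [AddCommGroup V] [Module K V] (W : Submodule K V) [Module.Finite K W]
    (h : Module.finrank K W = 0) : W = ⊥ := by
  letI : Field K := hK.toField
  exact Submodule.finrank_eq_zero.mp h

end Field

section Main

variable {k : Type u} [Field k] {R : Type u} [CommRing R] [Algebra k R]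
  (𝒜 : ℤ → Submodule k R) [GradedAlgebra 𝒜]
  (hposR : ∀ n : ℤ, n < 0 → 𝒜 n = ⊥) (h0R : 𝒜 0 = Submodule.span k {(1 : R)})

include hposR h0R in
/-- pieces of a graded algebra of finite type are finite-dimensional -/
theorem finite_piece [Algebra.FiniteType k R] (d : ℤ) : Module.Finite k (𝒜 d) := by
  haveI : IsNoetherianRing R := Algebra.FiniteType.isNoetherianRing k R
  have h := Groth.Agent.H98.finite_pieceSub 𝒜 (selfGr 𝒜) hposR h0R d
  have heq : Groth.Agent.H98.pieceSub 𝒜 (selfGr 𝒜) d = 𝒜 d := by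
    ext x
    exact Iff.rfl
  rw [heq] at h
  exact h

include hposR in
/-- pieces of graded local cohomology of the ring are finite over the degree-zero part -/
theorem finite_Hcomp_self [IsNoetherianRing R] (mR : HomogeneousIdeal 𝒜)
    (hmR : mR.toIdeal = Ideal.span (⋃ n ∈ Set.Ioi (0 : ℤ), (𝒜 n : Set R)))
    (I : GrLC.StarInjRes 𝒜 𝒜) (q : ℕ) (d : ℤ) :
    Module.Finite (GrLC.deg0 𝒜) (I.Hcomp mR q d) := by
  have hpos' : ∀ n : ℤ, n < 0 → ∀ r ∈ 𝒜 n, r = 0 := by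
    intro n hn r hr
    rw [hposR n hn] at hr
    exact (Submodule.mem_bot k).mp hr
  let X : GrLC.GMod.{u} 𝒜 := GrLC.GMod.of 𝒜 R (asGr 𝒜)
  haveI : Module.Finite R X.carrier := (inferInstance : Module.Finite R R)
  have E : GrLC.StarInjRes 𝒜 (asGr 𝒜) := asRes I
  exact finite_Hcomp 𝒜 hpos' mR hmR X (asRes I : GrLC.StarInjRes 𝒜 (asGr 𝒜)) q d

include h0R in
theorem isField_deg0 [Nontrivial R] : IsField (GrLC.deg0 𝒜) :=
  isField_deg0_selfGr 𝒜 h0R

end Main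

section Segre

variable {k : Type u} [Field k] {R : Type u} [CommRing R] [Algebra k R]
  (𝒜 : ℤ → Submodule k R) [GradedAlgebra 𝒜]
  (hposR : ∀ n : ℤ, n < 0 → 𝒜 n = ⊥) (h0R : 𝒜 0 = Submodule.span k {(1 : R)})
  [Algebra.FiniteType k R]
  {S : Type u} [CommRing S] [Algebra k S]
  (ℬ : ℤ → Submodule k S) [GradedAlgebra ℬ]
  (hposS : ∀ n : ℤ, n < 0 → ℬ n = ⊥) (h0S : ℬ 0 = Submodule.span k {(1 : S)})
  [Algebra.FiniteType k S]
  {T : Type u} [CommRing T] [Algebra k T] (𝒯 : ℤ → Submodule k T) [GradedAlgebra 𝒯]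
  (ψ : T →ₐ[k] R ⊗[k] S) (hψ : Function.Injective ψ)
  (hdegT : ∀ n : ℤ, (𝒯 n).map ψ.toLinearMap =
    Submodule.span k {x : R ⊗[k] S | ∃ a ∈ 𝒜 n, ∃ b ∈ ℬ n, x = a ⊗ₜ[k] b})
  [LocCoh.IsCohenMacaulayRing R] [LocCoh.IsCohenMacaulayRing S]
  (mR : HomogeneousIdeal 𝒜)
  (hmR : mR.toIdeal = Ideal.span (⋃ n ∈ Set.Ioi (0 : ℤ), (𝒜 n : Set R)))
  (I : GrLC.StarInjRes 𝒜 𝒜)
  (mS : HomogeneousIdeal ℬ)
  (hmS : mS.toIdeal = Ideal.span (⋃ n ∈ Set.Ioi (0 : ℤ), (ℬ n : Set S)))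
  (J : GrLC.StarInjRes ℬ ℬ)
  (mT : HomogeneousIdeal 𝒯)
  (hmT : mT.toIdeal = Ideal.span (⋃ n ∈ Set.Ioi (0 : ℤ), (𝒯 n : Set T)))
  (IT : GrLC.StarInjRes 𝒯 𝒯)
  (r s : ℕ) (hr : ringKrullDim R = r) (hs : ringKrullDim S = s)

include hr in
theorem nontrivial_of_dim : Nontrivial R := by
  by_contra hnt
  rw [not_nontrivial_iff_subsingleton] at hnt
  rw [ringKrullDim_eq_bot_of_subsingleton] at hr
  exact absurd hr (by simp)

include hposR h0R hmR hr in
/-- the graded local cohomology of a Cohen–Macaulay graded algebra lives in degree `dim` -/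
theorem Hcomp_eq_bot_of_ne (q : ℕ) (hq : q ≠ r) (d : ℤ) : I.Hcomp mR q d = ⊥ := by
  haveI : Nontrivial R := nontrivial_of_dim r hr
  haveI : IsNoetherianRing R := Algebra.FiniteType.isNoetherianRing k R
  apply Hcomp_eq_bot_of_subsingleton
  rcases lt_or_gt_of_ne hq with h | h
  · exact H_subsingleton_of_cm 𝒜 hposR h0R mR hmR r hr I q h
  · exact H_subsingleton_of_dim_lt 𝒜 mR r hr I q h

include hposR h0R hposS h0S hψ hdegT hmR hmS hmT hr hs in
/-- **Segre product of Cohen–Macaulay rings**, given the Künneth formula `hK`. -/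
theorem segre_cm_iff_of_kunneth (h2r : 2 ≤ r) (h2s : 2 ≤ s)
    (hK : ∀ (q : ℕ) (d : ℤ), Module.finrank (GrLC.deg0 𝒯) (IT.Hcomp mT q d) =
      Module.finrank k (𝒜 d) * Module.finrank (GrLC.deg0 ℬ) (J.Hcomp mS q d) +
      Module.finrank (GrLC.deg0 𝒜) (I.Hcomp mR q d) * Module.finrank k (ℬ d) +
      (Finset.range (q + 2)).sum (fun i => Module.finrank (GrLC.deg0 𝒜) (I.Hcomp mR i d) *
        Module.finrank (GrLC.deg0 ℬ) (J.Hcomp mS (q + 1 - i) d))) :
    LocCoh.IsCohenMacaulayRing T ↔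
      (∀ n : ℤ, 𝒜 n = ⊥ ∨ J.Hcomp mS s n = ⊥) ∧ (∀ n : ℤ, I.Hcomp mR r n = ⊥ ∨ ℬ n = ⊥) := by
  classical
  haveI : Nontrivial R := nontrivial_of_dim r hr
  haveI : Nontrivial S := nontrivial_of_dim s hs
  haveI : IsNoetherianRing R := Algebra.FiniteType.isNoetherianRing k R
  haveI : IsNoetherianRing S := Algebra.FiniteType.isNoetherianRing k S
  have hposT := segre_hpos 𝒜 ℬ 𝒯 ψ hψ hdegT hposR
  have h0T := segre_h0 𝒜 ℬ 𝒯 ψ hψ hdegT h0R h0S
  haveI : Algebra.FiniteType k T := segre_finiteType 𝒜 ℬ 𝒯 ψ hψ hdegT hposR h0R h0S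
  haveI : IsNoetherianRing T := Algebra.FiniteType.isNoetherianRing k T
  have hdimT : ringKrullDim T = ((r + s - 1 : ℕ) : WithBot ℕ∞) :=
    Groth.Agent.H85.SegreDim.main 𝒜 ℬ hposR h0R hposS h0S T 𝒯 ψ hψ hdegT r s hr hs
      (by omega) (by omega)
  haveI : Nontrivial T := by
    by_contra hnt
    rw [not_nontrivial_iff_subsingleton] at hnt
    rw [ringKrullDim_eq_bot_of_subsingleton] at hdimT
    exact WithBot.bot_ne_coe hdimT
  -- vanishing of the factors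
  have hRv : ∀ (q : ℕ) (d : ℤ), q ≠ r → Module.finrank (GrLC.deg0 𝒜) (I.Hcomp mR q d) = 0 := by
    intro q d hq
    rw [Hcomp_eq_bot_of_ne 𝒜 hposR h0R mR hmR I r hr q hq d]
    exact finrank_bot _ _
  have hSv : ∀ (q : ℕ) (d : ℤ), q ≠ s → Module.finrank (GrLC.deg0 ℬ) (J.Hcomp mS q d) = 0 := by
    intro q d hq
    rw [Hcomp_eq_bot_of_ne ℬ hposS h0S mS hmS J s hs q hq d]
    exact finrank_bot _ _
  -- finiteness
  have hfinA : ∀ d, Module.Finite k (𝒜 d) := finite_piece 𝒜 hposR h0R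
  have hfinB : ∀ d, Module.Finite k (ℬ d) := finite_piece ℬ hposS h0S
  have hfinI : ∀ q d, Module.Finite (GrLC.deg0 𝒜) (I.Hcomp mR q d) :=
    finite_Hcomp_self 𝒜 hposR mR hmR I
  have hfinJ : ∀ q d, Module.Finite (GrLC.deg0 ℬ) (J.Hcomp mS q d) :=
    finite_Hcomp_self ℬ hposS mS hmS J
  have hfinT : ∀ q d, Module.Finite (GrLC.deg0 𝒯) (IT.Hcomp mT q d) :=
    finite_Hcomp_self 𝒯 hposT mT hmT IT
  have hfA := isField_deg0 𝒜 h0R
  have hfB := isField_deg0 ℬ h0S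
  have hfT := isField_deg0 𝒯 h0T
  -- the sum term vanishes below the top
  have hsum : ∀ (q : ℕ) (d : ℤ), q < r + s - 1 →
      (Finset.range (q + 2)).sum (fun i => Module.finrank (GrLC.deg0 𝒜) (I.Hcomp mR i d) *
        Module.finrank (GrLC.deg0 ℬ) (J.Hcomp mS (q + 1 - i) d)) = 0 := by
    intro q d hq
    apply Finset.sum_eq_zero
    intro i hi
    rw [Finset.mem_range] at hi
    by_cases hir : i = r
    · have : q + 1 - i ≠ s := by omega
      rw [hSv _ d this, mul_zero]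
    · rw [hRv i d hir, zero_mul]
  constructor
  · intro hCM
    have hvan : ∀ (q : ℕ) (d : ℤ), q < r + s - 1 →
        Module.finrank (GrLC.deg0 𝒯) (IT.Hcomp mT q d) = 0 := by
      intro q d hq
      have hsub := H_subsingleton_of_cm 𝒯 hposT h0T mT hmT (r + s - 1) hdimT IT q hq
      rw [Hcomp_eq_bot_of_subsingleton IT mT q hsub d]
      exact finrank_bot _ _
    constructor
    · intro n
      have h1 := hK s n
      rw [hvan s n (by omega)] at h1
      have h2 : Module.finrank k (𝒜 n) * Module.finrank (GrLC.deg0 ℬ) (J.Hcomp mS s n) = 0 := by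
        omega
      rcases Nat.mul_eq_zero.mp h2 with h3 | h3
      · left
        haveI := hfinA n
        exact Submodule.finrank_eq_zero.mp h3
      · right
        haveI := hfinJ s n
        exact eq_bot_of_finrank_eq_zero hfB _ h3
    · intro n
      have h1 := hK r n
      rw [hvan r n (by omega)] at h1
      have h2 : Module.finrank (GrLC.deg0 𝒜) (I.Hcomp mR r n) * Module.finrank k (ℬ n) = 0 := by
        omega
      rcases Nat.mul_eq_zero.mp h2 with h3 | h3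
      · left
        haveI := hfinI r n
        exact eq_bot_of_finrank_eq_zero hfA _ h3
      · right
        haveI := hfinB n
        exact Submodule.finrank_eq_zero.mp h3
  · rintro ⟨hA, hB⟩
    apply isCohenMacaulayRing_of_H_subsingleton 𝒯 hposT h0T mT hmT (r + s - 1) hdimT IT
    intro q hq
    apply H_subsingleton_of_forall_Hcomp
    intro d
    haveI := hfinT q d
    apply eq_bot_of_finrank_eq_zero hfT
    rw [hK q d, hsum q d hq, add_zero]
    have t1 : Module.finrank k (𝒜 d) * Module.finrank (GrLC.deg0 ℬ) (J.Hcomp mS q d) = 0 := by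
      by_cases hqs : q = s
      · subst hqs
        rcases hA d with h | h
        · rw [h, finrank_bot, zero_mul]
        · rw [h, finrank_bot, mul_zero]
      · rw [hSv q d hqs, mul_zero]
    have t2 : Module.finrank (GrLC.deg0 𝒜) (I.Hcomp mR q d) * Module.finrank k (ℬ d) = 0 := by
      by_cases hqr : q = r
      · subst hqr
        rcases hB d with h | h
        · rw [h, finrank_bot, zero_mul]
        · rw [h, finrank_bot, mul_zero]
      · rw [hRv q d hqr, zero_mul]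
    rw [t1, t2]

end Segre

section Wrap

variable {k : Type u} [Field k] {T : Type u} [CommRing T] [Algebra k T]
  (𝒯 : ℤ → Submodule k T) [GradedAlgebra 𝒯]

/-- the irrelevant ideal as a homogeneous ideal -/
def irrHom : HomogeneousIdeal 𝒯 :=
  ⟨Ideal.span (⋃ n ∈ Set.Ioi (0 : ℤ), (𝒯 n : Set T)), by
    rw [← irr_eq_span_iUnion]
    exact irr_isHomogeneous 𝒯⟩

theorem irrHom_toIdeal :
    (irrHom 𝒯).toIdeal = Ideal.span (⋃ n ∈ Set.Ioi (0 : ℤ), (𝒯 n : Set T)) := rfl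

end Wrap

section Final

variable {k : Type u} [Field k] {R : Type u} [CommRing R] [Algebra k R]
  (𝒜 : ℤ → Submodule k R) [GradedAlgebra 𝒜]
  (hposR : ∀ n : ℤ, n < 0 → 𝒜 n = ⊥) (h0R : 𝒜 0 = Submodule.span k {(1 : R)})
  [Algebra.FiniteType k R]
  {S : Type u} [CommRing S] [Algebra k S]
  (ℬ : ℤ → Submodule k S) [GradedAlgebra ℬ]
  (hposS : ∀ n : ℤ, n < 0 → ℬ n = ⊥) (h0S : ℬ 0 = Submodule.span k {(1 : S)})
  [Algebra.FiniteType k S]
  {T : Type u} [CommRing T] [Algebra k T] (𝒯 : ℤ → Submodule k T) [GradedAlgebra 𝒯]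
  (ψ : T →ₐ[k] R ⊗[k] S) (hψ : Function.Injective ψ)
  (hdegT : ∀ n : ℤ, (𝒯 n).map ψ.toLinearMap =
    Submodule.span k {x : R ⊗[k] S | ∃ a ∈ 𝒜 n, ∃ b ∈ ℬ n, x = a ⊗ₜ[k] b})
  [LocCoh.IsCohenMacaulayRing R] [LocCoh.IsCohenMacaulayRing S]
  (mR : HomogeneousIdeal 𝒜)
  (hmR : mR.toIdeal = Ideal.span (⋃ n ∈ Set.Ioi (0 : ℤ), (𝒜 n : Set R)))
  (I : GrLC.StarInjRes 𝒜 𝒜)
  (mS : HomogeneousIdeal ℬ)
  (hmS : mS.toIdeal = Ideal.span (⋃ n ∈ Set.Ioi (0 : ℤ), (ℬ n : Set S)))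
  (J : GrLC.StarInjRes ℬ ℬ)
  (r s : ℕ) (hr : ringKrullDim R = r) (hs : ringKrullDim S = s)

include hposR h0R hposS h0S hψ hdegT hmR hmS hr hs in
/-- **Segre product of Cohen–Macaulay rings** (S18652), given the Künneth formula (S18673) -/
theorem segre_cm_iff (h2r : 2 ≤ r) (h2s : 2 ≤ s)
    (hK : ∀ (mT : HomogeneousIdeal 𝒯)
      (_ : mT.toIdeal = Ideal.span (⋃ n ∈ Set.Ioi (0 : ℤ), (𝒯 n : Set T)))
      (IT : GrLC.StarInjRes 𝒯 𝒯),
      (∀ (q : ℕ) (d : ℤ), q ≤ 1 → I.Hcomp mR q d = ⊥) →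
      (∀ (q : ℕ) (d : ℤ), q ≤ 1 → J.Hcomp mS q d = ⊥) →
      ∀ (q : ℕ) (d : ℤ), Module.finrank (GrLC.deg0 𝒯) (IT.Hcomp mT q d) =
      Module.finrank k (𝒜 d) * Module.finrank (GrLC.deg0 ℬ) (J.Hcomp mS q d) +
      Module.finrank (GrLC.deg0 𝒜) (I.Hcomp mR q d) * Module.finrank k (ℬ d) +
      (Finset.range (q + 2)).sum (fun i => Module.finrank (GrLC.deg0 𝒜) (I.Hcomp mR i d) *
        Module.finrank (GrLC.deg0 ℬ) (J.Hcomp mS (q + 1 - i) d))) :
    LocCoh.IsCohenMacaulayRing T ↔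
      (∀ n : ℤ, 𝒜 n = ⊥ ∨ J.Hcomp mS s n = ⊥) ∧ (∀ n : ℤ, I.Hcomp mR r n = ⊥ ∨ ℬ n = ⊥) := by
  have hR : ∀ (q : ℕ) (d : ℤ), q ≤ 1 → I.Hcomp mR q d = ⊥ := fun q d hq =>
    Hcomp_eq_bot_of_ne 𝒜 hposR h0R mR hmR I r hr q (by omega) d
  have hS : ∀ (q : ℕ) (d : ℤ), q ≤ 1 → J.Hcomp mS q d = ⊥ := fun q d hq =>
    Hcomp_eq_bot_of_ne ℬ hposS h0S mS hmS J s hs q (by omega) d
  exact segre_cm_iff_of_kunneth 𝒜 hposR h0R ℬ hposS h0S 𝒯 ψ hψ hdegT mR hmR I mS hmS J
    (irrHom 𝒯) (irrHom_toIdeal 𝒯) (resOf 𝒯 𝒯) r s hr hs h2r h2s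
    (hK (irrHom 𝒯) (irrHom_toIdeal 𝒯) (resOf 𝒯 𝒯) hR hS)

end Final

end Groth.Agent.H98.SegCM
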