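import Groth.Agent.H98.SegCM.Bridge
import Groth.Agent.H85.SegMod1G
import Groth.Agent.H85.SegMod1F

set_option autoImplicit false
universe u

/-!
# Graded modules over graded `k`-algebras: Cohen–Macaulayness and graded local cohomology
-/

namespace Groth.Agent.H98.SegCM

open Groth.Agent.H98.GrStar Groth.Agent.H85.GrConv Groth.Agent.H85.GradedNN
  Groth.Agent.H85.SegreOneCM Groth.Agent.H85.GradedCM Groth.Agent.H85.SegMod1

section Mod

variable {k : Type u} [Field k] {T : Type u} [CommRing T] [Algebra k T]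
  (𝒯 : ℤ → Submodule k T) [GradedAlgebra 𝒯]
  (hposT : ∀ n : ℤ, n < 0 → 𝒯 n = ⊥) (h0T : 𝒯 0 = Submodule.span k {(1 : T)})
  (mT : HomogeneousIdeal 𝒯)
  (hmT : mT.toIdeal = Ideal.span (⋃ n ∈ Set.Ioi (0 : ℤ), (𝒯 n : Set T)))
  {P : Type u} [AddCommGroup P] [Module T P]
  (𝒬 : ℤ → AddSubgroup P) [DirectSum.Decomposition 𝒬] [SetLike.GradedSMul 𝒯 𝒬]

/-- Grothendieck vanishing above the dimension of the module -/
theorem H_subsingleton_of_supportDim_lt [IsNoetherianRing T] (n : ℕ)
    (hn : Module.supportDim T P = n) (EP : GrLC.StarInjRes 𝒯 𝒬) (q : ℕ) (hq : n < q) :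
    Subsingleton (EP.H mT q) := by
  have e := Groth.Agent.H81.GrTopTensor.lcEquiv EP mT q
  have h1 : Module.supportDim T P < (q : WithBot ℕ∞) := by
    rw [hn]
    exact_mod_cast hq
  have := Groth.Agent.H58.LC.gv mT.toIdeal q P h1
  exact e.toEquiv.subsingleton

include hposT h0T hmT in
/-- depth vanishing for Cohen–Macaulay graded modules -/
theorem H_subsingleton_of_cm_mod [Algebra.FiniteType k T] [Module.Finite T P] [Nontrivial P]
    (n : ℕ) (hn : Module.supportDim T P = n)
    (hcm : ∀ (q : Ideal T) [q.IsPrime], Subsingleton (LocalizedModule q.primeCompl P) ∨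
      LocCoh.IsCohenMacaulayModule (Localization.AtPrime q) (LocalizedModule q.primeCompl P))
    (EP : GrLC.StarInjRes 𝒯 𝒬) (j : ℕ) (hj : j < n) : Subsingleton (EP.H mT j) := by
  classical
  haveI : IsNoetherianRing T := Algebra.FiniteType.isNoetherianRing k T
  haveI : Nontrivial T := Module.nontrivial T P
  have hmax : (irr 𝒯).IsMaximal := irr_isMaximal 𝒯 hposT h0T
  haveI hprime : (irr 𝒯).IsPrime := hmax.isPrime
  have hI : mT.toIdeal = irr 𝒯 := toIdeal_eq_irr 𝒯 mT hmT
  have hle := le_supportDim_localization_irr 𝒯 𝒬 hposT h0T n hn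
  have hnt : Nontrivial (LocalizedModule (irr 𝒯).primeCompl P) := by
    by_contra hcon
    rw [not_nontrivial_iff_subsingleton] at hcon
    rw [Module.supportDim_eq_bot_of_subsingleton] at hle
    exact absurd hle (by simp)
  have hcm' : LocCoh.IsCohenMacaulayModule (Localization.AtPrime (irr 𝒯))
      (LocalizedModule (irr 𝒯).primeCompl P) := by
    rcases hcm (irr 𝒯) with h | h
    · exact absurd h (not_subsingleton _)
    · exact h
  have hdimA := supportDim_localizedModule_le (P := P) (irr 𝒯)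
  rw [hn] at hdimA
  have hdimeq : Module.supportDim (Localization.AtPrime (irr 𝒯))
      (LocalizedModule (irr 𝒯).primeCompl P) = n := le_antisymm hdimA hle
  unfold LocCoh.IsCohenMacaulayModule at hcm'
  rw [hdimeq] at hcm'
  have hdep : LocCoh.depth (Localization.AtPrime (irr 𝒯))
      (LocalizedModule (irr 𝒯).primeCompl P) = n := by
    have := hcm'.symm
    exact_mod_cast this
  have hne : (irr 𝒯) • (⊤ : Submodule T P) ≠ ⊤ := irr_smul_top_ne_top 𝒯 hposT h0T 𝒬
  have hdepth : (n : ℕ∞) ≤ LocCoh.idealDepth (irr 𝒯) P := by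
    rw [Groth.Agent.H58.X26.idealDepth_eq_iInf_depth_localization]
    refine le_iInf₂ fun p hp => ?_
    have hpe : p.asIdeal = irr 𝒯 := (hmax.eq_of_le p.isPrime.ne_top hp).symm
    have : p = ⟨irr 𝒯, hprime⟩ := PrimeSpectrum.ext hpe
    subst this
    rw [hdep]
  have hlt : (j : ℕ∞) < LocCoh.idealDepth (irr 𝒯) P :=
    lt_of_lt_of_le (by exact_mod_cast hj) hdepth
  have := Groth.Agent.H58.LC.subsingleton_H_of_lt_idealDepth (irr 𝒯) P hne j hlt
  have e := Groth.Agent.H81.GrTopTensor.lcEquiv EP mT j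
  rw [hI] at e
  exact e.toEquiv.subsingleton

include hposT h0T hmT in
/-- vanishing of graded local cohomology below the dimension implies Cohen–Macaulay -/
theorem cm_of_H_subsingleton [Algebra.FiniteType k T] [Module.Finite T P] [Nontrivial P]
    (n : ℕ) (hn : Module.supportDim T P = n) (EP : GrLC.StarInjRes 𝒯 𝒬)
    (h : ∀ j : ℕ, j < n → Subsingleton (EP.H mT j)) :
    ∀ (q : Ideal T) [q.IsPrime], Subsingleton (LocalizedModule q.primeCompl P) ∨
      LocCoh.IsCohenMacaulayModule (Localization.AtPrime q) (LocalizedModule q.primeCompl P) := by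
  classical
  haveI : IsNoetherianRing T := Algebra.FiniteType.isNoetherianRing k T
  haveI : Nontrivial T := Module.nontrivial T P
  have hmax : (irr 𝒯).IsMaximal := irr_isMaximal 𝒯 hposT h0T
  haveI hprime : (irr 𝒯).IsPrime := hmax.isPrime
  have hI : mT.toIdeal = irr 𝒯 := toIdeal_eq_irr 𝒯 mT hmT
  have hle := le_supportDim_localization_irr 𝒯 𝒬 hposT h0T n hn
  have hnt : Nontrivial (LocalizedModule (irr 𝒯).primeCompl P) := by
    by_contra hcon
    rw [not_nontrivial_iff_subsingleton] at hcon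
    rw [Module.supportDim_eq_bot_of_subsingleton] at hle
    exact absurd hle (by simp)
  apply cm_all_of_cm_irr 𝒯 hposT h0T 𝒬
  set A := Localization.AtPrime (irr 𝒯) with hA
  haveI : IsNoetherianRing A := IsLocalization.isNoetherianRing (irr 𝒯).primeCompl A inferInstance
  haveI : Module.Finite A (LocalizedModule (irr 𝒯).primeCompl P) :=
    Module.Finite.of_isLocalizedModule (irr 𝒯).primeCompl
      (LocalizedModule.mkLinearMap (irr 𝒯).primeCompl P)
  have hne : (irr 𝒯) • (⊤ : Submodule T P) ≠ ⊤ := irr_smul_top_ne_top 𝒯 hposT h0T 𝒬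
  have hdepth : (n : ℕ∞) ≤ LocCoh.idealDepth (irr 𝒯) P := by
    by_contra hlt
    push Not at hlt
    obtain ⟨t, ht⟩ : ∃ t : ℕ, LocCoh.idealDepth (irr 𝒯) P = t := by
      have hne_top : LocCoh.idealDepth (irr 𝒯) P ≠ ⊤ := ne_top_of_lt hlt
      exact ⟨(LocCoh.idealDepth (irr 𝒯) P).toNat, (ENat.natCast_toNat hne_top).symm⟩
    have htn : t < n := by
      rw [ht] at hlt
      exact_mod_cast hlt
    have hnt' := Groth.Agent.H58.LC.nontrivial_H_of_idealDepth_eq (irr 𝒯) P hne t ht
    have hsub := h t htn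
    have e := Groth.Agent.H81.GrTopTensor.lcEquiv EP mT t
    rw [hI] at e
    have : Subsingleton (LocCoh.H (irr 𝒯) t P) := e.symm.toEquiv.subsingleton
    exact not_subsingleton _ this
  have hdA : (n : ℕ∞) ≤ LocCoh.depth A (LocalizedModule (irr 𝒯).primeCompl P) := by
    rw [Groth.Agent.H58.X26.idealDepth_eq_iInf_depth_localization] at hdepth
    exact hdepth.trans (iInf₂_le (⟨irr 𝒯, hprime⟩ : PrimeSpectrum T) le_rfl)
  have hle2 := Groth.Agent.H29.CML.depth_le_supportDim (A := A)
    (LocalizedModule (irr 𝒯).primeCompl P)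
  have hdimA := supportDim_localizedModule_le (P := P) (irr 𝒯)
  rw [hn] at hdimA
  unfold LocCoh.IsCohenMacaulayModule
  apply le_antisymm
  · refine hdimA.trans ?_
    have : ((n : ℕ∞) : WithBot ℕ∞) ≤
        ((LocCoh.depth A (LocalizedModule (irr 𝒯).primeCompl P) : ℕ∞) : WithBot ℕ∞) :=
      WithBot.coe_le_coe.mpr hdA
    exact this
  · exact hle2

end Mod

end Groth.Agent.H98.SegCM
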