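import Groth.Agent.H98.SegCM.ModBridge
import Groth.Agent.H98.SegCM.RingCM
import Groth.Agent.H85.SegreModCM

set_option autoImplicit false
universe u

/-!
# Cohen–Macaulayness of Segre products of graded Cohen–Macaulay modules from the Künneth formula
-/

namespace Groth.Agent.H98.SegCM

open scoped TensorProduct
open Groth.Agent.H98.GrStar Groth.Agent.H85.GrConv Groth.Agent.H85.GradedNN
  Groth.Agent.H85.SegreOneCM Groth.Agent.H85.SegreRingFacts Groth.Agent.H85.SegMod1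

section Semilinear

/-- finiteness transported along a semilinear additive surjection -/
theorem finite_of_semilinear_surjective {k K₀ V W : Type*} [Semiring k] [Semiring K₀]
    [AddCommMonoid V] [Module k V] [AddCommMonoid W] [Module K₀ W] (ρ : k → K₀) (f : V →+ W)
    (hf : ∀ (c : k) (v : V), f (c • v) = ρ c • f v) (hsurj : Function.Surjective f)
    [Module.Finite k V] : Module.Finite K₀ W := by
  classical
  obtain ⟨s, hs⟩ := (Module.finite_def.mp (inferInstance : Module.Finite k V))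
  refine Module.finite_def.mpr ⟨s.image f, ?_⟩
  rw [eq_top_iff]
  rintro w -
  obtain ⟨v, rfl⟩ := hsurj w
  have hv : v ∈ Submodule.span k (s : Set V) := by rw [hs]; trivial
  clear hs
  induction hv using Submodule.span_induction with
  | mem x hx =>
    apply Submodule.subset_span
    rw [Finset.coe_image]
    exact ⟨x, hx, rfl⟩
  | zero => rw [map_zero]; exact Submodule.zero_mem _
  | add x y _ _ hx hy => rw [map_add]; exact Submodule.add_mem _ hx hy
  | smul c x _ hx => rw [hf]; exact Submodule.smul_mem _ _ hx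

end Semilinear

section Comp

variable {k : Type u} [Field k] {R : Type u} [CommRing R] [Algebra k R]
  (𝒜 : ℤ → Submodule k R) [GradedAlgebra 𝒜]
  (hposR : ∀ n : ℤ, n < 0 → 𝒜 n = ⊥) (h0R : 𝒜 0 = Submodule.span k {(1 : R)})
  {M : Type u} [AddCommGroup M] [Module R M] [Module k M] [IsScalarTower k R M]
  (ℳ : ℤ → AddSubgroup M) [DirectSum.Decomposition ℳ] [SetLike.GradedSMul 𝒜 ℳ]

include hposR h0R in
/-- pieces of a finite graded module are finite over the degree-zero subring -/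
theorem finite_comp [IsNoetherianRing R] [Module.Finite R M] (d : ℤ) :
    Module.Finite (GrLC.deg0 𝒜) (GrLC.comp 𝒜 ℳ d) := by
  haveI := Groth.Agent.H98.finite_pieceSub 𝒜 ℳ hposR h0R d
  let ρ : k → GrLC.deg0 𝒜 := fun c => ⟨algebraMap k R c, by
    change algebraMap k R c ∈ 𝒜 0
    rw [Algebra.algebraMap_eq_smul_one]
    exact Submodule.smul_mem _ _ SetLike.GradedOne.one_mem⟩
  let f : ↥(Groth.Agent.H98.pieceSub 𝒜 ℳ d) →+ ↥(GrLC.comp 𝒜 ℳ d) :=
    { toFun := fun v => ⟨v.1, v.2⟩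
      map_zero' := rfl
      map_add' := fun _ _ => rfl }
  refine finite_of_semilinear_surjective ρ f ?_ ?_
  · intro c v
    apply Subtype.ext
    change c • (v : M) = (algebraMap k R c) • (v : M)
    rw [algebraMap_smul]
  · rintro ⟨x, hx⟩
    exact ⟨⟨x, hx⟩, rfl⟩

theorem comp_eq_bot_iff (d : ℤ) : GrLC.comp 𝒜 ℳ d = ⊥ ↔ ℳ d = ⊥ := by
  constructor
  · intro h
    rw [eq_bot_iff]
    intro x hx
    have : x ∈ GrLC.comp 𝒜 ℳ d := hx
    rw [h] at this
    exact (AddSubgroup.mem_bot).mpr ((Submodule.mem_bot _).mp this)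
  · intro h
    rw [eq_bot_iff]
    intro x hx
    have : x ∈ ℳ d := hx
    rw [h] at this
    exact (Submodule.mem_bot _).mpr ((AddSubgroup.mem_bot).mp this)

end Comp

section ModMain

variable {k : Type u} [Field k] {R : Type u} [CommRing R] [Algebra k R]
  (𝒜 : ℤ → Submodule k R) [GradedAlgebra 𝒜]
  (hposR : ∀ n : ℤ, n < 0 → 𝒜 n = ⊥) (h0R : 𝒜 0 = Submodule.span k {(1 : R)})
  [Algebra.FiniteType k R]
  (mR : HomogeneousIdeal 𝒜)
  (hmR : mR.toIdeal = Ideal.span (⋃ n ∈ Set.Ioi (0 : ℤ), (𝒜 n : Set R)))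
  {M : Type u} [AddCommGroup M] [Module R M] [Module k M] [IsScalarTower k R M]
  (ℳ : ℤ → AddSubgroup M) [DirectSum.Decomposition ℳ] [SetLike.GradedSMul 𝒜 ℳ]
  [Module.Finite R M] (EM : GrLC.StarInjRes 𝒜 ℳ)

theorem nontrivial_of_supportDim (r : ℕ) (hr : Module.supportDim R M = r) : Nontrivial M := by
  by_contra hnt
  rw [not_nontrivial_iff_subsingleton] at hnt
  rw [Module.supportDim_eq_bot_of_subsingleton] at hr
  exact absurd hr (by simp)

include hposR h0R hmR in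
/-- the graded local cohomology of a graded Cohen–Macaulay module lives in degree `dim` -/
theorem Hcomp_eq_bot_of_ne_mod (r : ℕ) (hr : Module.supportDim R M = r)
    (hcm : ∀ (q : Ideal R) [q.IsPrime], Subsingleton (LocalizedModule q.primeCompl M) ∨
      LocCoh.IsCohenMacaulayModule (Localization.AtPrime q) (LocalizedModule q.primeCompl M))
    (q : ℕ) (hq : q ≠ r) (d : ℤ) : EM.Hcomp mR q d = ⊥ := by
  haveI : Nontrivial M := nontrivial_of_supportDim r hr
  haveI : IsNoetherianRing R := Algebra.FiniteType.isNoetherianRing k R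
  apply Hcomp_eq_bot_of_subsingleton
  rcases lt_or_gt_of_ne hq with h | h
  · exact H_subsingleton_of_cm_mod 𝒜 hposR h0R mR hmR ℳ r hr hcm EM q h
  · exact H_subsingleton_of_supportDim_lt 𝒜 mR ℳ r hr EM q h

include hposR hmR in
/-- pieces of graded local cohomology of a finite module are finite over the degree-zero part -/
theorem finite_Hcomp_mod (q : ℕ) (d : ℤ) :
    Module.Finite (GrLC.deg0 𝒜) (EM.Hcomp mR q d) := by
  haveI : IsNoetherianRing R := Algebra.FiniteType.isNoetherianRing k R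
  have hpos' : ∀ n : ℤ, n < 0 → ∀ r ∈ 𝒜 n, r = 0 := by
    intro n hn r hr
    rw [hposR n hn] at hr
    exact (Submodule.mem_bot k).mp hr
  let X : GrLC.GMod.{u} 𝒜 := GrLC.GMod.of 𝒜 M ℳ
  haveI : Module.Finite R X.carrier := (inferInstance : Module.Finite R M)
  exact finite_Hcomp 𝒜 hpos' mR hmR X EM q d

end ModMain

section SegreMod

variable {k : Type u} [Field k] {R : Type u} [CommRing R] [Algebra k R]
  (𝒜 : ℤ → Submodule k R) [GradedAlgebra 𝒜]
  (hposR : ∀ n : ℤ, n < 0 → 𝒜 n = ⊥) (h0R : 𝒜 0 = Submodule.span k {(1 : R)})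
  [Algebra.FiniteType k R]
  {S : Type u} [CommRing S] [Algebra k S]
  (ℬ : ℤ → Submodule k S) [GradedAlgebra ℬ]
  (hposS : ∀ n : ℤ, n < 0 → ℬ n = ⊥) (h0S : ℬ 0 = Submodule.span k {(1 : S)})
  [Algebra.FiniteType k S]
  {T : Type u} [CommRing T] [Algebra k T] (𝒯 : ℤ → Submodule k T) [GradedAlgebra 𝒯]
  (ψ : T →ₐ[k] R ⊗[k] S) (hT : GrSeg.IsSegreRing 𝒜 ℬ 𝒯 ψ)
  (mR : HomogeneousIdeal 𝒜)
  (hmR : mR.toIdeal = Ideal.span (⋃ n ∈ Set.Ioi (0 : ℤ), (𝒜 n : Set R)))
  (mS : HomogeneousIdeal ℬ)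
  (hmS : mS.toIdeal = Ideal.span (⋃ n ∈ Set.Ioi (0 : ℤ), (ℬ n : Set S)))
  {M : Type u} [AddCommGroup M] [Module R M] [Module k M] [IsScalarTower k R M]
  (ℳ : ℤ → AddSubgroup M) [DirectSum.Decomposition ℳ] [SetLike.GradedSMul 𝒜 ℳ]
  [Module.Finite R M] (EM : GrLC.StarInjRes 𝒜 ℳ)
  {N : Type u} [AddCommGroup N] [Module S N] [Module k N] [IsScalarTower k S N]
  (𝒩 : ℤ → AddSubgroup N) [DirectSum.Decomposition 𝒩] [SetLike.GradedSMul ℬ 𝒩]
  [Module.Finite S N] (EN : GrLC.StarInjRes ℬ 𝒩)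
  {P : Type u} [AddCommGroup P] [Module T P] [Module k P] [IsScalarTower k T P]
  (𝒬 : ℤ → AddSubgroup P) [DirectSum.Decomposition 𝒬] [SetLike.GradedSMul 𝒯 𝒬]
  (φ : P →ₗ[k] M ⊗[k] N) (hP : GrSeg.IsSegreMod ψ ℳ 𝒩 𝒬 φ) [Nontrivial P]
  (r s : ℕ)
  (hdM : Module.supportDim R M = r) (hdN : Module.supportDim S N = s)
  (hMcm : ∀ (q : Ideal R) [q.IsPrime], Subsingleton (LocalizedModule q.primeCompl M) ∨
    LocCoh.IsCohenMacaulayModule (Localization.AtPrime q) (LocalizedModule q.primeCompl M))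
  (hNcm : ∀ (q : Ideal S) [q.IsPrime], Subsingleton (LocalizedModule q.primeCompl N) ∨
    LocCoh.IsCohenMacaulayModule (Localization.AtPrime q) (LocalizedModule q.primeCompl N))

include hposR h0R hposS h0S hT hmR hmS hP hdM hdN hMcm hNcm in
/-- **S19755**, given the Künneth formula (S19765) -/
theorem segre_mod_cm_iff (h2r : 2 ≤ r) (h2s : 2 ≤ s)
    (hK : ∀ (mT : HomogeneousIdeal 𝒯)
      (_ : mT.toIdeal = Ideal.span (⋃ n ∈ Set.Ioi (0 : ℤ), (𝒯 n : Set T)))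
      (EP : GrLC.StarInjRes 𝒯 𝒬),
      (∀ (q : ℕ) (d : ℤ), q ≤ 1 → EM.Hcomp mR q d = ⊥) →
      (∀ (q : ℕ) (d : ℤ), q ≤ 1 → EN.Hcomp mS q d = ⊥) →
      ∀ (q : ℕ) (d : ℤ), Module.finrank (GrLC.deg0 𝒯) (EP.Hcomp mT q d) =
      Module.finrank (GrLC.deg0 𝒜) (GrLC.comp 𝒜 ℳ d) *
        Module.finrank (GrLC.deg0 ℬ) (EN.Hcomp mS q d) +
      Module.finrank (GrLC.deg0 𝒜) (EM.Hcomp mR q d) *
        Module.finrank (GrLC.deg0 ℬ) (GrLC.comp ℬ 𝒩 d) +
      (Finset.range (q + 2)).sum (fun i => Module.finrank (GrLC.deg0 𝒜) (EM.Hcomp mR i d) *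
        Module.finrank (GrLC.deg0 ℬ) (EN.Hcomp mS (q + 1 - i) d))) :
    (∀ (q : Ideal T) [q.IsPrime], Subsingleton (LocalizedModule q.primeCompl P) ∨
      LocCoh.IsCohenMacaulayModule (Localization.AtPrime q) (LocalizedModule q.primeCompl P)) ↔
      (∀ d : ℤ, ℳ d = ⊥ ∨ EN.Hcomp mS s d = ⊥) ∧ (∀ d : ℤ, EM.Hcomp mR r d = ⊥ ∨ 𝒩 d = ⊥) := by
  classical
  haveI : Nontrivial M := nontrivial_of_supportDim r hdM
  haveI : Nontrivial N := nontrivial_of_supportDim s hdN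
  haveI : Nontrivial R := Module.nontrivial R M
  haveI : Nontrivial S := Module.nontrivial S N
  haveI : Nontrivial T := Module.nontrivial T P
  haveI : IsNoetherianRing R := Algebra.FiniteType.isNoetherianRing k R
  haveI : IsNoetherianRing S := Algebra.FiniteType.isNoetherianRing k S
  have hposT := segre_hpos 𝒜 ℬ 𝒯 ψ hT.1 hT.2 hposR
  have h0T := segre_h0 𝒜 ℬ 𝒯 ψ hT.1 hT.2 h0R h0S
  haveI : Algebra.FiniteType k T := segre_finiteType 𝒜 ℬ 𝒯 ψ hT.1 hT.2 hposR h0R h0S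
  haveI : IsNoetherianRing T := Algebra.FiniteType.isNoetherianRing k T
  haveI : IsNoetherian T P :=
    Groth.Agent.H98.segre_isNoetherian 𝒜 ℬ 𝒯 ψ hT ℳ 𝒩 𝒬 φ hP
  haveI : Module.Finite T P := inferInstance
  have hdimP : Module.supportDim T P = ((r + s - 1 : ℕ) : WithBot ℕ∞) := by
    rcases Groth.Agent.H85.SegreModCM.main_cm 𝒜 ℬ ℳ 𝒩 hposR h0R hposS h0S T 𝒯 ψ hT P 𝒬 φ hP r s
      (by omega) (by omega) hdM hdN hMcm hNcm with h | h
    · exact h
    · exact absurd h (not_subsingleton P)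
  set mT := irrHom 𝒯 with hmTdef
  have hmT : mT.toIdeal = Ideal.span (⋃ n ∈ Set.Ioi (0 : ℤ), (𝒯 n : Set T)) := irrHom_toIdeal 𝒯
  set EP : GrLC.StarInjRes 𝒯 𝒬 := resOf 𝒯 𝒬 with hEP
  have hM : ∀ (q : ℕ) (d : ℤ), q ≤ 1 → EM.Hcomp mR q d = ⊥ := fun q d hq =>
    Hcomp_eq_bot_of_ne_mod 𝒜 hposR h0R mR hmR ℳ EM r hdM hMcm q (by omega) d
  have hN : ∀ (q : ℕ) (d : ℤ), q ≤ 1 → EN.Hcomp mS q d = ⊥ := fun q d hq =>
    Hcomp_eq_bot_of_ne_mod ℬ hposS h0S mS hmS 𝒩 EN s hdN hNcm q (by omega) d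
  have hK' := hK mT hmT EP hM hN
  -- vanishing of the factors
  have hRv : ∀ (q : ℕ) (d : ℤ), q ≠ r → Module.finrank (GrLC.deg0 𝒜) (EM.Hcomp mR q d) = 0 := by
    intro q d hq
    rw [Hcomp_eq_bot_of_ne_mod 𝒜 hposR h0R mR hmR ℳ EM r hdM hMcm q hq d]
    exact finrank_bot _ _
  have hSv : ∀ (q : ℕ) (d : ℤ), q ≠ s → Module.finrank (GrLC.deg0 ℬ) (EN.Hcomp mS q d) = 0 := by
    intro q d hq
    rw [Hcomp_eq_bot_of_ne_mod ℬ hposS h0S mS hmS 𝒩 EN s hdN hNcm q hq d]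
    exact finrank_bot _ _
  -- finiteness
  have hfinA : ∀ d, Module.Finite (GrLC.deg0 𝒜) (GrLC.comp 𝒜 ℳ d) := finite_comp 𝒜 hposR h0R ℳ
  have hfinB : ∀ d, Module.Finite (GrLC.deg0 ℬ) (GrLC.comp ℬ 𝒩 d) := finite_comp ℬ hposS h0S 𝒩
  have hfinI : ∀ q d, Module.Finite (GrLC.deg0 𝒜) (EM.Hcomp mR q d) :=
    finite_Hcomp_mod 𝒜 hposR mR hmR ℳ EM
  have hfinJ : ∀ q d, Module.Finite (GrLC.deg0 ℬ) (EN.Hcomp mS q d) :=
    finite_Hcomp_mod ℬ hposS mS hmS 𝒩 EN
  have hfinT : ∀ q d, Module.Finite (GrLC.deg0 𝒯) (EP.Hcomp mT q d) :=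
    finite_Hcomp_mod 𝒯 hposT mT hmT 𝒬 EP
  have hfA := isField_deg0 𝒜 h0R
  have hfB := isField_deg0 ℬ h0S
  have hfT := isField_deg0 𝒯 h0T
  have hsum : ∀ (q : ℕ) (d : ℤ), q < r + s - 1 →
      (Finset.range (q + 2)).sum (fun i => Module.finrank (GrLC.deg0 𝒜) (EM.Hcomp mR i d) *
        Module.finrank (GrLC.deg0 ℬ) (EN.Hcomp mS (q + 1 - i) d)) = 0 := by
    intro q d hq
    apply Finset.sum_eq_zero
    intro i hi
    rw [Finset.mem_range] at hi
    by_cases hir : i = r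
    · have : q + 1 - i ≠ s := by omega
      rw [hSv _ d this, mul_zero]
    · rw [hRv i d hir, zero_mul]
  constructor
  · intro hCM
    have hvan : ∀ (q : ℕ) (d : ℤ), q < r + s - 1 →
        Module.finrank (GrLC.deg0 𝒯) (EP.Hcomp mT q d) = 0 := by
      intro q d hq
      have hsub := H_subsingleton_of_cm_mod 𝒯 hposT h0T mT hmT 𝒬 (r + s - 1) hdimP hCM EP q hq
      rw [Hcomp_eq_bot_of_subsingleton EP mT q hsub d]
      exact finrank_bot _ _
    constructor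
    · intro n
      have h1 := hK' s n
      rw [hvan s n (by omega)] at h1
      have h2 : Module.finrank (GrLC.deg0 𝒜) (GrLC.comp 𝒜 ℳ n) *
          Module.finrank (GrLC.deg0 ℬ) (EN.Hcomp mS s n) = 0 := by omega
      rcases Nat.mul_eq_zero.mp h2 with h3 | h3
      · left
        haveI := hfinA n
        exact (comp_eq_bot_iff 𝒜 ℳ n).mp (eq_bot_of_finrank_eq_zero hfA _ h3)
      · right
        haveI := hfinJ s n
        exact eq_bot_of_finrank_eq_zero hfB _ h3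
    · intro n
      have h1 := hK' r n
      rw [hvan r n (by omega)] at h1
      have h2 : Module.finrank (GrLC.deg0 𝒜) (EM.Hcomp mR r n) *
          Module.finrank (GrLC.deg0 ℬ) (GrLC.comp ℬ 𝒩 n) = 0 := by omega
      rcases Nat.mul_eq_zero.mp h2 with h3 | h3
      · left
        haveI := hfinI r n
        exact eq_bot_of_finrank_eq_zero hfA _ h3
      · right
        haveI := hfinB n
        exact (comp_eq_bot_iff ℬ 𝒩 n).mp (eq_bot_of_finrank_eq_zero hfB _ h3)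
  · rintro ⟨hA, hB⟩
    apply cm_of_H_subsingleton 𝒯 hposT h0T mT hmT 𝒬 (r + s - 1) hdimP EP
    intro q hq
    apply H_subsingleton_of_forall_Hcomp
    intro d
    haveI := hfinT q d
    apply eq_bot_of_finrank_eq_zero hfT
    rw [hK' q d, hsum q d hq, add_zero]
    have t1 : Module.finrank (GrLC.deg0 𝒜) (GrLC.comp 𝒜 ℳ d) *
        Module.finrank (GrLC.deg0 ℬ) (EN.Hcomp mS q d) = 0 := by
      by_cases hqs : q = s
      · subst hqs
        rcases hA d with h | h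
        · rw [(comp_eq_bot_iff 𝒜 ℳ d).mpr h, finrank_bot, zero_mul]
        · rw [h, finrank_bot, mul_zero]
      · rw [hSv q d hqs, mul_zero]
    have t2 : Module.finrank (GrLC.deg0 𝒜) (EM.Hcomp mR q d) *
        Module.finrank (GrLC.deg0 ℬ) (GrLC.comp ℬ 𝒩 d) = 0 := by
      by_cases hqr : q = r
      · subst hqr
        rcases hB d with h | h
        · rw [h, finrank_bot, zero_mul]
        · rw [(comp_eq_bot_iff ℬ 𝒩 d).mpr h, finrank_bot, mul_zero]
      · rw [hRv q d hqr, zero_mul]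
    rw [t1, t2]

end SegreMod

end Groth.Agent.H98.SegCM
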